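import Mathlib
import Groth.Prelude.Def_Cyc
import Groth.Agent.CycAffLib.Fibre
import Groth.Agent.CatLib.Univ
import Groth.Agent.CycPushLib.Local

/-!
# Specialization of cycles is capping with the divisor of a uniformizer

Give `Spec R` of a discrete valuation ring the dimension function with value `1` at the generic and
`0` at the closed point; then `X` over `R` is a setup and the specialization of a cycle is the sum of
the divisors of the uniformizer on the closures.
-/

set_option autoImplicit false
set_option linter.style.haveILetI false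
set_option linter.unusedSectionVars false

universe u

open AlgebraicGeometry CategoryTheory CategoryTheory.Limits IsLocalRing

noncomputable section

namespace CycSpLib

variable (R : Type u) [CommRing R] [IsDomain R] [IsDiscreteValuationRing R]

/-- The spectrum. -/
abbrev base : Scheme.{u} := Spec (CommRingCat.of R)

/-- The generic point. -/
abbrev eta : base R := genericPoint ↥(Spec (CommRingCat.of R))

/-- The closed point. -/
abbrev spl : base R := IsLocalRing.closedPoint R

theorem eta_eq : eta R = (⊥ : PrimeSpectrum R) := genericPoint_eq_bot_of_affine (CommRingCat.of R)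

theorem eta_ne_spl : eta R ≠ spl R := fun h => by
  rw [eta_eq] at h
  exact IsDiscreteValuationRing.not_a_field R (congrArg PrimeSpectrum.asIdeal h).symm

theorem eq_or (y : base R) : y = eta R ∨ y = spl R := by
  rcases eq_or_ne y.asIdeal ⊥ with h | h
  · exact Or.inl ((PrimeSpectrum.ext h : y = (⊥ : PrimeSpectrum R)).trans (eta_eq R).symm)
  · exact Or.inr (PrimeSpectrum.ext (IsLocalRing.eq_maximalIdeal (y.isPrime.isMaximal h)))

/-- A chosen uniformizer. -/
def unif : R := (IsDiscreteValuationRing.exists_irreducible R).choose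

theorem unif_spec : maximalIdeal R = Ideal.span {unif R} :=
  (IsDiscreteValuationRing.exists_irreducible R).choose_spec.maximalIdeal_eq

theorem unif_ne_zero : unif R ≠ 0 := (IsDiscreteValuationRing.exists_irreducible R).choose_spec.ne_zero

open Classical in
/-- The dimension function of the trait. -/
def baseδ : base R → ℤ := fun y => if y = eta R then 1 else 0

theorem baseδ_eta : baseδ R (eta R) = 1 := if_pos rfl

theorem baseδ_spl : baseδ R (spl R) = 0 := if_neg (eta_ne_spl R).symm

theorem isSetup_base : Cyc.IsSetup (base R) (baseδ R) := by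
  refine ⟨inferInstance, fun y => ?_, fun a b hab hne => ?_⟩
  · have hk : CAlg.IsUniversallyCatenary R :=
      CatLib.isUniversallyCatenary_of_isCMRing CatLib.isCMRing_of_isRegularRing
    let A : CommRingCat.{u} := (Spec.structureSheaf R).presheaf.stalk y
    haveI : IsLocalization.AtPrime A y.asIdeal := StructureSheaf.IsLocalization.to_stalk R y
    haveI : Algebra.EssFiniteType R A := Algebra.EssFiniteType.of_isLocalization A y.asIdeal.primeCompl
    exact CatLib.isUniversallyCatenary_of_essFiniteType R A hk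
  · rcases eq_or R a with rfl | rfl
    · rcases eq_or R b with rfl | rfl
      · exact absurd rfl hne
      · rw [baseδ_eta, baseδ_spl]
        omega
    · exfalso
      rcases eq_or R b with rfl | rfl
      · exact hne (hab.antisymm (genericPoint_specializes _)).eq
      · exact hne rfl

variable {R} {X : Scheme.{u}} (a : X ⟶ base R)

/-- The uniformizer as a function on `X`. -/
def piGlob : Γ(X, ⊤) := a.appTop ((Scheme.ΓSpecIso (CommRingCat.of R)).inv (unif R))

/-- The uniformizer in a residue field. -/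
def pf (ξ : X) : X.residueField ξ := X.evaluation ⊤ ξ trivial (piGlob a)

/-- The uniformizer in a local ring. -/
def piGerm (x : X) : X.presheaf.stalk x := X.presheaf.germ ⊤ x trivial (piGlob a)

theorem specMap_piGerm {x ξ : X} (h : ξ ⤳ x) : Cyc.specMap x ξ h (piGerm a x) = pf a ξ :=
  CycPushLib.specMap_germ h (U := ⊤) trivial trivial _

theorem pf_ne_zero_iff (ξ : X) : pf a ξ ≠ 0 ↔ a ξ = eta R := by
  rw [pf, Scheme.evaluation_ne_zero_iff_mem_basicOpen, piGlob, ← Scheme.preimage_basicOpen_top]
  show a ξ ∈ (base R).basicOpen _ ↔ _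
  rw [AlgebraicGeometry.basicOpen_eq_of_affine]
  show unif R ∉ (a ξ).asIdeal ↔ _
  rcases eq_or R (a ξ) with h | h
  · rw [h]
    refine iff_of_true ?_ rfl
    rw [eta_eq]
    exact unif_ne_zero R
  · rw [h]
    refine iff_of_false (fun hn => hn ?_) (eta_ne_spl R).symm
    show unif R ∈ maximalIdeal R
    rw [unif_spec]
    exact Ideal.mem_span_singleton_self _

theorem maximalIdeal_stalk (y : base R) (hy : y = spl R) :
    maximalIdeal ((base R).presheaf.stalk y) =
      Ideal.span {(base R).presheaf.germ ⊤ y trivial ((Scheme.ΓSpecIso (CommRingCat.of R)).inv (unif R))} := by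
  subst hy
  let φ := (Scheme.ΓSpecIso (CommRingCat.of R)).inv ≫ (base R).presheaf.germ ⊤ (spl R) trivial
  letI : Algebra R ((base R).presheaf.stalk (spl R)) := φ.hom.toAlgebra
  haveI : IsLocalization.AtPrime ((base R).presheaf.stalk (spl R)) (spl R).asIdeal :=
    StructureSheaf.IsLocalization.to_stalk R (spl R)
  rw [← IsLocalization.AtPrime.map_eq_maximalIdeal (spl R).asIdeal ((base R).presheaf.stalk (spl R)),
    show (spl R).asIdeal = maximalIdeal R from rfl, unif_spec, Ideal.map_span, Set.image_singleton]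
  rfl

theorem maximalIdeal_stalk_eta (y : base R) (hy : y = eta R) :
    maximalIdeal ((base R).presheaf.stalk y) = ⊥ := by
  subst hy
  exact IsLocalRing.isField_iff_maximalIdeal_eq.1 (Field.toIsField (base R).functionField)

theorem fibIdeal_spl (x : X) (hx : a x = spl R) :
    CycLimLib.fibIdeal a x = Ideal.span {piGerm a x} := by
  show Ideal.map (a.stalkMap x).hom (maximalIdeal _) = _
  rw [maximalIdeal_stalk (a x) hx, Ideal.map_span, Set.image_singleton]
  exact congrArg (fun z => Ideal.span ({z} : Set (X.presheaf.stalk x)))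
    (Scheme.Hom.germ_stalkMap_apply a ⊤ x trivial _)

theorem fibIdeal_eta (x : X) (hx : a x = eta R) : CycLimLib.fibIdeal a x = ⊥ := by
  show Ideal.map (a.stalkMap x).hom (maximalIdeal _) = _
  rw [maximalIdeal_stalk_eta (a x) hx, Ideal.map_bot]

theorem fib_apply {y : base R} (w : a.fiber y) : a (a.fiberι y w) = y :=
  (a.range_fiberι y).le ⟨w, rfl⟩

/-- The dimension functions of the fibres inside the total space. -/
theorem exists_delta [LocallyOfFiniteType a] :
    ∃ δX : X → ℤ, Cyc.IsSetup X δX ∧ Cyc.DeltaCompat a δX (baseδ R) ∧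
      ∀ (y : base R) (δ' : a.fiber y → ℤ), Cyc.DeltaCompat (a.fiberToSpecResidueField y) δ' (fun _ => 0) →
        ∀ w, δX (a.fiberι y w) = δ' w + baseδ R y := by
  obtain ⟨δX, hδ⟩ := CycAffLib.exists_deltaCompat a (baseδ R)
  refine ⟨δX, CycBivLib.isSetup_of_lft a (isSetup_base R) hδ, hδ, fun y δ' h' w => ?_⟩
  obtain ⟨n, hn, hn'⟩ := CycAffLib.fibre_deltaCompat (IsPullback.of_hasPullback a ((base R).fromSpecResidueField y)) hδ w
  obtain ⟨m, hm, hm'⟩ := h' w
  have h : (n : Cardinal) = (m : Cardinal) := hn.symm.trans hm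
  have h2 : n = m := by exact_mod_cast h
  simp only at hn' hm'
  have hn'' : δX (a.fiberι y w) = baseδ R y + n := hn'
  omega

variable {δX : X → ℤ}

/-- The specialization as a sum of divisors of the uniformizer. -/
theorem spFun_eq (hX : Cyc.IsSetup X δX) {δη : a.fiber (eta R) → ℤ} {δs : a.fiber (spl R) → ℤ}
    (hη : ∀ ζ, δX (a.fiberι (eta R) ζ) = δη ζ + 1) (hs : ∀ x, δX (a.fiberι (spl R) x) = δs x)
    (r : ℤ) (α : a.fiber (eta R) → ℤ) (hα : ∀ ζ, δη ζ ≠ r → α ζ = 0) (x : a.fiber (spl R)) :
    Cyc.spFun a (eta R) (spl R) δη δs r α x = if δs x = r then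
      ∑ᶠ ζ, α ζ * Cyc.divFun δX (a.fiberι (eta R) ζ) (pf a (a.fiberι (eta R) ζ)) (a.fiberι (spl R) x)
    else 0 := by
  classical
  haveI := hX.1
  simp only [Cyc.spFun]
  split_ifs with hr
  swap
  · rfl
  let P : a.fiber (eta R) → Prop := fun ζ => δη ζ = r ∧ a.fiberι (eta R) ζ ⤳ a.fiberι (spl R) x
  let G : a.fiber (eta R) → ℤ := fun ζ =>
    α ζ * Cyc.divFun δX (a.fiberι (eta R) ζ) (pf a (a.fiberι (eta R) ζ)) (a.fiberι (spl R) x)
  have hG : Function.support G ⊆ {ζ | P ζ} := fun ζ hζ => ⟨by_contra fun h => left_ne_zero_of_mul hζ (hα ζ h),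
    by_contra fun h => right_ne_zero_of_mul hζ (CycC1Lib.divFun_eq_zero_of_not_specializes h _)⟩
  show _ = ∑ᶠ ζ, G ζ
  rw [← finsum_mem_univ G, finsum_mem_inter_support_eq' G Set.univ {ζ | P ζ} fun ζ hζ =>
    ⟨fun _ => hG hζ, fun _ => trivial⟩, ← finsum_set_coe_eq_finsum_mem]
  refine finsum_congr fun ζ => ?_
  obtain ⟨ζ, hζr, hζs⟩ := ζ
  show α ζ * _ = α ζ * _
  congr 1
  have hdrop : δX (a.fiberι (spl R) x) + 1 = δX (a.fiberι (eta R) ζ) := by rw [hs, hη, hr, hζr]
  have hne : Cyc.specMap _ _ hζs (piGerm a (a.fiberι (spl R) x)) ≠ 0 := by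
    rw [specMap_piGerm, pf_ne_zero_iff]
    exact fib_apply a ζ
  rw [Cyc.divFun, dif_pos ⟨hζs, hdrop⟩, ← specMap_piGerm a hζs,
    CycDivLib.ordAt_specMap hζs (CycPushLib.dimBetween_le_one_of_drop hX hζs hdrop) hne,
    ← Ideal.map_map, ← CycDivLib.ker_specMap, ← fibIdeal_spl a _ (fib_apply a x)]
  exact congrArg (fun n : ℕ∞ => (n.toNat : ℤ)) (DoubleQuot.quotQuotEquivQuotSupₐ (X.presheaf.stalk (a.fiberι (spl R) x))
    (RingHom.ker (Cyc.specMap _ _ hζs)) (CycLimLib.fibIdeal a (a.fiberι (spl R) x))).toLinearEquiv.length_eq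

/-- A sum over a scheme of a function supported on an injectively embedded piece. -/
theorem finsum_comp_of_support {α β : Type*} (i : β → α) (hi : Function.Injective i) (f : α → ℤ)
    (hf : ∀ x, f x ≠ 0 → x ∈ Set.range i) : ∑ᶠ x, f x = ∑ᶠ y, f (i y) := by
  rw [← finsum_mem_range hi, ← finsum_mem_univ f]
  exact finsum_mem_inter_support_eq' f _ _ fun x hx => ⟨fun _ => hf x hx, fun _ => trivial⟩

end CycSpLib

end
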