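import Mathlib
import Groth.Prelude.Def_Cyc
import Groth.Agent.CycSpLib.Basic
import Groth.Agent.CycP1Lib.Length
import Groth.Agent.CycLimLib.Sheaf
import Groth.Agent.QCohLib.Coherent

/-!
# Specialization of the cycle of a flat sheaf
-/

set_option autoImplicit false
set_option linter.style.haveILetI false
set_option linter.unusedSectionVars false

universe u

open AlgebraicGeometry CategoryTheory CategoryTheory.Limits IsLocalRing
open scoped Pointwise TensorProduct

noncomputable section

namespace CycSpLib

variable {W X : Scheme.{u}}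

theorem length_stalk_pullback_preimmersion (i : W ⟶ X) [IsPreimmersion i] (F : X.Modules) (w : W) :
    Module.length (W.presheaf.stalk w) (((Scheme.Modules.pullback i).obj F).presheaf.stalk w) =
      Module.length (X.presheaf.stalk (i w)) (F.presheaf.stalk (i w) ⧸
        RingHom.ker (i.stalkMap w).hom • (⊤ : Submodule (X.presheaf.stalk (i w)) (F.presheaf.stalk (i w)))) := by
  letI : Algebra (X.presheaf.stalk (i w)) (W.presheaf.stalk w) := (i.stalkMap w).hom.toAlgebra
  have hs : Function.Surjective (algebraMap (X.presheaf.stalk (i w)) (W.presheaf.stalk w)) :=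
    i.stalkMap_surjective w
  refine (((KFlatLib.stalkPullIso i w).app F).toLinearEquiv.length_eq).trans ?_
  show Module.length (W.presheaf.stalk w)
    (W.presheaf.stalk w ⊗[X.presheaf.stalk (i w)] ((DevissLib.St (i w)).obj F)) = _
  rw [← Module.length_eq_of_surjective (R := W.presheaf.stalk w) (S := X.presheaf.stalk (i w)) hs]
  exact ((TensorProduct.congr (Ideal.quotientKerAlgEquivOfSurjective
    (f := Algebra.ofId (X.presheaf.stalk (i w)) (W.presheaf.stalk w)) hs).toLinearEquiv.symm
    (LinearEquiv.refl _ _)).trans (TensorProduct.quotTensorEquivQuotSMul _ _)).length_eq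

theorem ker_fiberι (f : X ⟶ W) (s : W) (y : f.fiber s) :
    RingHom.ker ((f.fiberι s).stalkMap y).hom = CycLimLib.fibIdeal f (f.fiberι s y) :=
  (Groth.Agent.S9501.result f s y).2

theorem exists_push_structure_stalk (i : W ⟶ X) [IsClosedImmersion i] (w : W) :
    ∃ e : ((Coh.push i).obj (Coh.structureModule W)).presheaf.stalk (i w) → W.presheaf.stalk w,
      Function.Bijective e ∧ (∀ m n, e (m + n) = e m + e n) ∧ ∀ c m, e (c • m) = i.stalkMap w c * e m := by
  obtain ⟨U, s, hU, hsU⟩ := TwistLib.exists_genOn (M := Coh.structureModule W)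
    (fun _ => ⟨⊤, trivial, ⟨Scheme.Modules.restrictUnitIso _⟩⟩) w
  let g : (Coh.structureModule W).presheaf.stalk w := (Coh.structureModule W).presheaf.germ U w hU s
  let σ := (TopCat.Presheaf.stalkPushforward AddCommGrpCat i.base (Coh.structureModule W).presheaf w).hom
  have hσ : Function.Bijective σ := DegPullLib.bijective_stalkPushforward i i.isClosedEmbedding.isClosedMap
    (Coh.structureModule W) w fun v hv => i.isClosedEmbedding.injective hv
  let e₂ := LinearEquiv.ofBijective (LinearMap.toSpanSingleton (W.presheaf.stalk w) _ g) (hsU.genAt hU)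
  refine ⟨fun m => e₂.symm (σ m), e₂.symm.bijective.comp hσ, fun m n => ?_, fun c m => ?_⟩
  · exact (congrArg e₂.symm (σ.map_add m n)).trans (e₂.symm.map_add _ _)
  · show e₂.symm (σ (c • m)) = _
    rw [show σ (c • m) = i.stalkMap w c • σ m from DegPullLib.stalkPushforward_smul i (Coh.structureModule W) w c m,
      map_smul, smul_eq_mul]

variable {R : Type u} [CommRing R] [IsDomain R] [IsDiscreteValuationRing R] (a : X ⟶ base R)
  [LocallyOfFiniteType a]

theorem isUnit_or_mem {x : X} (hx : a x = spl R) : piGerm a x ∈ maximalIdeal (X.presheaf.stalk x) :=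
  CycLimLib.fibIdeal_le a x (by rw [fibIdeal_spl a x hx]; exact Ideal.mem_span_singleton_self _)

/-- The specialization of the cycle of a coherent sheaf on which the uniformizer is regular along the
closed fibre. -/
theorem sp_sheaf {δX : X → ℤ} (hX : Cyc.IsSetup X δX) {δη : a.fiber (eta R) → ℤ} {δs : a.fiber (spl R) → ℤ}
    (hη : ∀ ζ, δX (a.fiberι (eta R) ζ) = δη ζ + 1) (hs : ∀ x, δX (a.fiberι (spl R) x) = δs x)
    (r : ℤ) (F : X.Modules) (hF : Coh.IsCoh F)
    (hinj : ∀ x : X, a x = spl R → Function.Injective fun m : F.presheaf.stalk x => piGerm a x • m)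
    (hdim : ∀ ζ, Nontrivial (F.presheaf.stalk (a.fiberι (eta R) ζ)) → δη ζ ≤ r) :
    (∀ x, Nontrivial (F.presheaf.stalk (a.fiberι (spl R) x)) → δs x ≤ r) ∧
      ∀ α : a.fiber (eta R) → ℤ, (∀ ζ, α ζ = Cyc.sheafFun δX (r + 1) F (a.fiberι (eta R) ζ)) → ∀ x,
        Cyc.spFun a (eta R) (spl R) δη δs r α x = if δs x = r then
          ((Module.length (X.presheaf.stalk (a.fiberι (spl R) x)) (F.presheaf.stalk (a.fiberι (spl R) x) ⧸
            piGerm a (a.fiberι (spl R) x) • (⊤ : Submodule (X.presheaf.stalk (a.fiberι (spl R) x))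
              (F.presheaf.stalk (a.fiberι (spl R) x))))).toNat : ℤ)
        else 0 := by
  classical
  haveI := hX.1
  haveI := hF.1
  have hgen : ∀ ξ, Nontrivial (F.presheaf.stalk ξ) → a ξ = eta R → δX ξ ≤ r + 1 := fun ξ hξ he => by
    obtain ⟨ζ, rfl⟩ := (a.range_fiberι (eta R)).ge he
    have := hdim ζ hξ
    rw [hη]
    omega
  have hle : ∀ x : X, a x = spl R → Nontrivial (F.presheaf.stalk x) → δX x ≤ r := fun x hx hnt => by
    haveI := DepthLib.finite_stalk F hF.2 x
    haveI := hnt
    obtain ⟨P, hP⟩ := associatedPrimes.nonempty (X.presheaf.stalk x) (F.presheaf.stalk x)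
    let p : PrimeSpectrum (X.presheaf.stalk x) := ⟨P, hP.isPrime⟩
    obtain ⟨-, m, hm⟩ := (isAssociatedPrime_iff_exists_injective_linearMap P (F.presheaf.stalk x)).1 hP
    have hker : ∀ c : X.presheaf.stalk x, c • m (Submodule.Quotient.mk 1) = 0 → c ∈ P := fun c hc => by
      rw [← map_smul, ← Submodule.Quotient.mk_smul, smul_eq_mul, mul_one, ← map_zero m] at hc
      exact (Submodule.Quotient.mk_eq_zero _).1 (hm hc)
    have hsupp : p ∈ Module.support (X.presheaf.stalk x) (F.presheaf.stalk x) :=
      Module.mem_support_iff_exists_annihilator.2 ⟨m (Submodule.Quotient.mk 1), fun c hc =>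
        hker c (Submodule.mem_annihilator_span_singleton _ _ |>.1 hc)⟩
    have hnt' : Nontrivial (F.presheaf.stalk (EquidimLib.stalkPt x p)) :=
      not_subsingleton_iff_nontrivial.1 ((DvrLenLib.mem_support_stalk_iff F hF.2 x p).1 hsupp)
    have hspec : EquidimLib.stalkPt x p ⤳ x := EquidimLib.stalkPt_specializes x p
    have hπ : piGerm a x ∉ P := fun hmem => by
      have h1 : piGerm a x • m (Submodule.Quotient.mk 1) = piGerm a x • (0 : F.presheaf.stalk x) := by
        rw [smul_zero, ← map_smul, ← Submodule.Quotient.mk_smul, smul_eq_mul, mul_one,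
          (Submodule.Quotient.mk_eq_zero _).2 hmem, map_zero]
      have h2 := hinj x hx h1
      rw [← map_zero m] at h2
      exact hP.isPrime.ne_top (P.eq_top_iff_one.2 ((Submodule.Quotient.mk_eq_zero _).1 (hm h2)))
    have hpf : pf a (EquidimLib.stalkPt x p) ≠ 0 := by
      rw [← specMap_piGerm a hspec]
      intro h0
      have h1 := (CycDivLib.specMap_eq_zero_iff hspec _).1 h0
      rw [EquidimLib.stalkPt_injective x (CycDivLib.stalkPt_primeOf hspec)] at h1
      exact hπ h1
    have he := (pf_ne_zero_iff a _).1 hpf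
    have h1 := hgen _ hnt' he
    have h2 := (hX.2.2 _ _ hspec fun e => eta_ne_spl R (by rw [← he, e, hx])).1
    omega
  refine ⟨fun x hnt => hs x ▸ hle _ (fib_apply a x) hnt, fun α hα x => ?_⟩
  rw [spFun_eq a hX hη hs r α (fun ζ hζ => by
    rw [hα, Cyc.sheafFun, if_neg fun h => hζ (by rw [hη] at h; omega)]) x]
  split_ifs with hr
  swap
  · rfl
  have hdim' : ∀ y : X, Nontrivial (F.presheaf.stalk y) → δX y ≤ r + 1 := fun y hy => by
    rcases eq_or R (a y) with h | h
    · exact hgen y hy h
    · have := hle y h hy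
      omega
  rw [← CycP1Lib.length_quot_eq_finsum_divFun hX (k := r) hF hdim' (x := a.fiberι (spl R) x) ((hs x).trans hr)
    (piGerm a _) (hinj _ (fib_apply a x)) (pf a) fun ξ h hnt hd => ⟨(specMap_piGerm a h).symm, fun h0 => by
      rcases eq_or R (a ξ) with he | he
      · exact (pf_ne_zero_iff a ξ).2 he h0
      · have := hle ξ he hnt
        omega⟩,
    finsum_comp_of_support _ (a.fiberι (eta R)).isEmbedding.injective _ fun ξ hξ => ?_]
  · exact finsum_congr fun ζ => by rw [hα]
  · rw [a.range_fiberι]
    by_contra h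
    refine right_ne_zero_of_mul hξ ?_
    have h0 : pf a ξ = 0 := by_contra fun hne => h ((pf_ne_zero_iff a ξ).1 hne)
    have hl := left_ne_zero_of_mul hξ
    simp only [Cyc.sheafFun] at hl
    split_ifs at hl with hd
    swap
    · exact absurd rfl hl
    rcases subsingleton_or_nontrivial (F.presheaf.stalk ξ) with hn | hn
    · exact absurd (by rw [Module.length_eq_zero]; rfl) hl
    · exfalso
      have := hle ξ ((eq_or R (a ξ)).resolve_left h) hn
      omega

theorem nontrivial_of_length_ne_zero {A : Type u} [CommRing A] {M : Type u} [AddCommGroup M] [Module A M]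
    (h : Module.length A M ≠ 0) : Nontrivial M :=
  (subsingleton_or_nontrivial M).resolve_left fun _ => h Module.length_eq_zero

end CycSpLib

end
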