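import Mathlib
import Groth.Prelude.Def_Cyc
import Groth.Agent.CycSpLib.Sheaf
import Groth.Agent.CycC1Lib.Pull
import Groth.Agent.CycC1Lib.Push

/-!
# Specialization commutes with flat pullback and proper pushforward
-/

set_option autoImplicit false
set_option linter.style.haveILetI false
set_option linter.unusedSectionVars false

universe u

open AlgebraicGeometry CategoryTheory CategoryTheory.Limits IsLocalRing

noncomputable section

namespace CycSpLib

open CycLimLib (IsGen fibIdeal)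

variable {R : Type u} [CommRing R] [IsDomain R] [IsDiscreteValuationRing R]
variable {X Y : Scheme.{u}} (f : X ⟶ Y) (b : Y ⟶ base R)

/-- The induced map of fibres. -/
abbrev fm (y : base R) : (f ≫ b).fiber y ⟶ b.fiber y :=
  pullback.map (f ≫ b) ((base R).fromSpecResidueField y) b ((base R).fromSpecResidueField y) f (𝟙 _) (𝟙 _)
    (Category.comp_id _) ((Category.comp_id _).trans (Category.id_comp _).symm)

theorem fm_fac (y : base R) : fm f b y ≫ b.fiberι y = (f ≫ b).fiberι y ≫ f := pullback.lift_fst _ _ _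

theorem fm_apply (y : base R) (w : (f ≫ b).fiber y) : b.fiberι y (fm f b y w) = f ((f ≫ b).fiberι y w) := by
  rw [← Scheme.Hom.comp_apply, fm_fac, Scheme.Hom.comp_apply]

theorem residueDegree_fm (y : base R) (w : (f ≫ b).fiber y) :
    (fm f b y).residueDegree w = f.residueDegree ((f ≫ b).fiberι y w) := by
  have h1 := CycPushLib.residueDegree_congr (fm_fac f b y) w
  rw [CycPushLib.residueDegree_comp, CycPushLib.residueDegree_comp,
    CycPushLib.residueDegree_eq_one_of_preimmersion (b.fiberι y),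
    CycPushLib.residueDegree_eq_one_of_preimmersion ((f ≫ b).fiberι y)] at h1
  simpa using h1

theorem map_maximalIdeal_of_surjective {A B : Type*} [CommRing A] [CommRing B] [IsLocalRing A] [IsLocalRing B]
    (φ : A →+* B) (hφ : Function.Surjective φ) : (maximalIdeal A).map φ = maximalIdeal B := by
  rcases Ideal.map_eq_top_or_isMaximal_of_surjective φ hφ (I := maximalIdeal A) (maximalIdeal.isMaximal A) with h | h
  · exfalso
    have hk : RingHom.ker φ ≤ maximalIdeal A := IsLocalRing.le_maximalIdeal (RingHom.ker_ne_top φ)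
    have h2 := congrArg (Ideal.comap φ) h
    rw [Ideal.comap_map_of_surjective' φ hφ, sup_eq_left.2 hk, Ideal.comap_top] at h2
    exact (maximalIdeal.isMaximal A).ne_top h2
  · exact IsLocalRing.eq_maximalIdeal h

theorem length_fm (y : base R) (w : (f ≫ b).fiber y) :
    Module.length (((f ≫ b).fiber y).presheaf.stalk w) (((f ≫ b).fiber y).presheaf.stalk w ⧸ fibIdeal (fm f b y) w) =
      Module.length (X.presheaf.stalk ((f ≫ b).fiberι y w))
        (X.presheaf.stalk ((f ≫ b).fiberι y w) ⧸ fibIdeal f ((f ≫ b).fiberι y w)) := by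
  let i := (f ≫ b).fiberι y
  have hker : RingHom.ker (i.stalkMap w).hom ≤ fibIdeal f (i w) := by
    refine (ker_fiberι (f ≫ b) y w).le.trans ?_
    show Ideal.map ((f ≫ b).stalkMap (i w)).hom _ ≤ _
    rw [Scheme.Hom.stalkMap_comp]
    refine le_trans (le_of_eq (Ideal.map_map (b.stalkMap (f (i w))).hom (f.stalkMap (i w)).hom).symm)
      (Ideal.map_mono (CycLimLib.fibIdeal_le b (f (i w))))
  have hmax : Ideal.map ((b.fiberι y).stalkMap (fm f b y w)).hom
      (maximalIdeal (Y.presheaf.stalk (b.fiberι y (fm f b y w)))) = maximalIdeal _ :=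
    map_maximalIdeal_of_surjective _ ((b.fiberι y).stalkMap_surjective _)
  have key : ∀ (g : (f ≫ b).fiber y ⟶ Y), g = fm f b y ≫ b.fiberι y →
      fibIdeal g w = fibIdeal (fm f b y) w := by
    rintro _ rfl
    show Ideal.map ((fm f b y ≫ b.fiberι y).stalkMap w).hom _ = Ideal.map ((fm f b y).stalkMap w).hom _
    rw [Scheme.Hom.stalkMap_comp, ← hmax]
    exact (Ideal.map_map _ _).symm
  have hmap : (fibIdeal f (i w)).map (i.stalkMap w).hom = fibIdeal (fm f b y) w := by
    rw [← key _ (fm_fac f b y).symm]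
    show _ = Ideal.map ((i ≫ f).stalkMap w).hom _
    rw [Scheme.Hom.stalkMap_comp]
    exact Ideal.map_map _ _
  rw [← hmap, CycPushLib.length_quot_map_surjective _ (i.stalkMap_surjective w) _ hker]

theorem gpull_pf (z : X) {ξ : Y} (hξ : f z = ξ) : CycDivLib.gpull f hξ (pf b ξ) = pf (f ≫ b) z := by
  subst hξ
  rw [CycPushLib.gpull_rfl]
  show f.residueFieldMap z (Y.evaluation ⊤ (f z) trivial (piGlob b)) = _
  exact Scheme.Γevaluation_naturality_apply f z _

theorem quasiCompact_fiberι (y : base R) : QuasiCompact (b.fiberι y) := by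
  haveI : IsAffineHom ((base R).fromSpecResidueField y) := isAffineHom_of_isAffine _
  haveI : IsAffineHom (b.fiberι y) :=
    MorphismProperty.of_isPullback (IsPullback.of_hasPullback b ((base R).fromSpecResidueField y)).flip
      (inferInstance : IsAffineHom ((base R).fromSpecResidueField y))
  infer_instance

/-- A cycle of a fibre has finitely many points in the preimage of a compact open. -/
theorem finite_fibre_support (y : base R) (α : AlgebraicCycle (b.fiber y) ℤ) {V : Y.Opens}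
    (hV : IsAffineOpen V) : {ζ | b.fiberι y ζ ∈ V ∧ α ζ ≠ 0}.Finite := by
  haveI := quasiCompact_fiberι b y
  exact LocallyFiniteSupport.finite_inter_support_of_isCompact (Function.locallyFinsupp.locallyFiniteSupport α)
    (QuasiCompact.isCompact_preimage (f := b.fiberι y) _ V.isOpen hV.isCompact)

variable [LocallyOfFiniteType b]

/-- Specialization commutes with flat pullback. -/
theorem sp_pullFun [Flat f] [LocallyOfFiniteType f] {e : ℕ} (he : Cyc.HasRelDim f e)
    (δ'η : (f ≫ b).fiber (eta R) → ℤ) (δ's : (f ≫ b).fiber (spl R) → ℤ)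
    (δη : b.fiber (eta R) → ℤ) (δs : b.fiber (spl R) → ℤ)
    (h1 : Cyc.DeltaCompat ((f ≫ b).fiberToSpecResidueField (eta R)) δ'η (fun _ => 0))
    (h2 : Cyc.DeltaCompat ((f ≫ b).fiberToSpecResidueField (spl R)) δ's (fun _ => 0))
    (h3 : Cyc.DeltaCompat (b.fiberToSpecResidueField (eta R)) δη (fun _ => 0))
    (h4 : Cyc.DeltaCompat (b.fiberToSpecResidueField (spl R)) δs (fun _ => 0))
    (r : ℤ) (α : AlgebraicCycle (b.fiber (eta R)) ℤ) (hα : α ∈ Cyc.Zk (b.fiber (eta R)) δη r) :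
    Cyc.spFun (f ≫ b) (eta R) (spl R) δ'η δ's (r + e) (Cyc.pullFun (fm f b (eta R)) δ'η δη e ⇑α) =
      Cyc.pullFun (fm f b (spl R)) δ's δs e (Cyc.spFun b (eta R) (spl R) δη δs r ⇑α) := by
  classical
  obtain ⟨δY, hY, hbY, hfibY⟩ := exists_delta b
  obtain ⟨δX, hX, hbX, hfibX⟩ := exists_delta (f ≫ b)
  have hδf : Cyc.DeltaCompat f δX δY := CycBivLib.deltaCompat_cancel f b rfl hbY hbX
  haveI := hX.1
  haveI := hY.1
  have eη' : ∀ w, δX ((f ≫ b).fiberι (eta R) w) = δ'η w + 1 := fun w => by rw [hfibX _ _ h1, baseδ_eta]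
  have es' : ∀ w, δX ((f ≫ b).fiberι (spl R) w) = δ's w := fun w => by rw [hfibX _ _ h2, baseδ_spl, add_zero]
  have eη : ∀ w, δY (b.fiberι (eta R) w) = δη w + 1 := fun w => by rw [hfibY _ _ h3, baseδ_eta]
  have es : ∀ w, δY (b.fiberι (spl R) w) = δs w := fun w => by rw [hfibY _ _ h4, baseδ_spl, add_zero]
  funext x'
  let x₀ := (f ≫ b).fiberι (spl R) x'
  let ι := b.fiberι (eta R)
  let αY : Y → ℤ := Function.extend ι α 0
  have hαY : ∀ ζ, αY (ι ζ) = α ζ := fun ζ => ι.isEmbedding.injective.extend_apply _ _ ζ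
  let len : X → ℤ := fun z => ((Module.length (X.presheaf.stalk z) (X.presheaf.stalk z ⧸ fibIdeal f z)).toNat : ℤ)
  let H : X → ℤ := fun z =>
    if IsGen f z then αY (f z) * len z * Cyc.divFun δX z (pf (f ≫ b) z) x₀ else 0
  have hgen : ∀ z, δX z = δY (f z) + e ↔ IsGen f z := fun z =>
    ⟨CycLimLib.isGen_of_relDim f hδf he, CycLimLib.delta_eq_of_gen f hδf he⟩
  have hL : Cyc.spFun (f ≫ b) (eta R) (spl R) δ'η δ's (r + e) (Cyc.pullFun (fm f b (eta R)) δ'η δη e ⇑α) x' =
      if δ's x' = r + e then ∑ᶠ z, H z else 0 := by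
    rw [spFun_eq (f ≫ b) hX eη' es' (r + e) _ (fun ζ hζ => ?_) x']
    · refine if_congr Iff.rfl ?_ rfl
      rw [finsum_comp_of_support _ ((f ≫ b).fiberι (eta R)).isEmbedding.injective H fun z hz => ?_]
      · refine finsum_congr fun ζ => ?_
        simp only [Cyc.pullFun, H]
        rw [← fm_apply f b (eta R) ζ, hαY]
        by_cases hc : δ'η ζ = δη (fm f b (eta R) ζ) + e
        · rw [if_pos hc, if_pos ((hgen _).1 (by rw [eη', ← fm_apply, eη, hc]; ring))]
          show _ * ((Module.length _ (_ ⧸ fibIdeal (fm f b (eta R)) ζ)).toNat : ℤ) * _ = _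
          rw [length_fm]
        · rw [if_neg hc, if_neg fun hg => hc (by
            have := (hgen _).2 hg
            rw [eη', ← fm_apply, eη] at this
            omega), zero_mul]
      · rw [(f ≫ b).range_fiberι]
        simp only [H] at hz
        split_ifs at hz
        · obtain ⟨ζ, hζ⟩ : f z ∈ Set.range ι := by
            by_contra hn
            exact left_ne_zero_of_mul (left_ne_zero_of_mul hz) (Function.extend_apply' _ _ _ hn)
          show b (f z) = eta R
          rw [← hζ]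
          exact fib_apply b ζ
        · exact absurd rfl hz
    · simp only [Cyc.pullFun]
      split_ifs with hc
      · rw [hα _ fun h => hζ (by omega), zero_mul]
      · rfl
  rw [hL]
  simp only [Cyc.pullFun]
  rw [spFun_eq b hY eη es r ⇑α hα (fm f b (spl R) x')]
  have hx₀ : b.fiberι (spl R) (fm f b (spl R) x') = f x₀ := fm_apply f b (spl R) x'
  -- finite index sets
  obtain ⟨V, hV, hxV, -⟩ := exists_isAffineOpen_mem_and_subset (X := Y) (x := f x₀) (U := ⊤) trivial
  obtain ⟨V', hV', hxV', hVV⟩ := exists_isAffineOpen_mem_and_subset (X := X) (x := x₀) (U := f ⁻¹ᵁ V) hxV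
  have hSfin := finite_fibre_support b (eta R) α hV
  let S := hSfin.toFinset
  let S' := S.image ι
  have hTfin : {z : X | z ∈ V' ∧ IsGen f z ∧ f z ∈ S'}.Finite :=
    (S'.finite_toSet.biUnion fun η _ => CycC1Lib.finite_gen_inter_affine f hV' η).subset
      fun z hz => Set.mem_biUnion hz.2.2 ⟨hz.1, hz.2.1, rfl⟩
  let T := hTfin.toFinset
  have hHT : ∑ᶠ z, H z = ∑ z ∈ T, H z := by
    refine finsum_eq_sum_of_support_subset _ fun z hz => ?_
    simp only [Function.mem_support, H] at hz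
    split_ifs at hz with hg
    · have hsp : z ⤳ x₀ := by_contra fun hn =>
        right_ne_zero_of_mul hz (CycC1Lib.divFun_eq_zero_of_not_specializes hn _)
      have hα0 := left_ne_zero_of_mul (left_ne_zero_of_mul hz)
      obtain ⟨ζ, hζ⟩ : f z ∈ Set.range ι := by_contra fun hn => hα0 (Function.extend_apply' _ _ _ hn)
      refine hTfin.mem_toFinset.2 ⟨hsp.mem_open V'.isOpen hxV', hg, Finset.mem_image.2 ⟨ζ, hSfin.mem_toFinset.2 ⟨?_, ?_⟩, hζ⟩⟩
      · show ι ζ ∈ V
        rw [hζ]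
        exact (hsp.map f.continuous).mem_open V.isOpen hxV
      · rw [← hαY, hζ]; exact hα0
    · exact absurd rfl hz
  have hinner : ∀ ζ ∈ S, (∑ z ∈ T.filter (fun z => f z = ι ζ), H z) =
      α ζ * Cyc.pullFun f δX δY e (Cyc.divFun δY (ι ζ) (pf b (ι ζ))) x₀ := by
    intro ζ hζ
    rw [CycDivLib.pullFun_divFun f hX hY he hδf (ι ζ) ((pf_ne_zero_iff b (ι ζ)).2 (fib_apply b ζ)) x₀]
    let G : {z : X // IsGen f z ∧ f z = ι ζ} → ℤ := fun z => len z.1 * Cyc.divFun δX z.1 (pf (f ≫ b) z.1) x₀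
    rw [finsum_congr (g := G) fun z => by rw [gpull_pf]]
    have hsub : Function.support G ⊆ ↑(T.subtype fun z => IsGen f z ∧ f z = ι ζ) := fun z hz => by
      rw [Finset.mem_coe, Finset.mem_subtype]
      refine hTfin.mem_toFinset.2 ⟨Specializes.mem_open ?_ V'.isOpen hxV', z.2.1, ?_⟩
      · exact by_contra fun hn => right_ne_zero_of_mul hz (CycC1Lib.divFun_eq_zero_of_not_specializes hn _)
      · rw [z.2.2]
        exact Finset.mem_image.2 ⟨ζ, hζ, rfl⟩
    rw [finsum_eq_sum_of_support_subset G hsub,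
      Finset.sum_subtype_eq_sum_filter (fun z : X => len z * Cyc.divFun δX z (pf (f ≫ b) z) x₀), Finset.mul_sum]
    refine Finset.sum_congr ?_ fun z hz => ?_
    · refine Finset.filter_congr fun z hz => ?_
      exact ⟨fun h => ⟨(hTfin.mem_toFinset.1 hz).2.1, h⟩, fun h => h.2⟩
    · obtain ⟨hzT, hzf⟩ := Finset.mem_filter.1 hz
      simp only [H]
      rw [if_pos hzf.1, hzf.2, hαY, mul_assoc]
  have hfw : ∑ z ∈ T, H z = ∑ ζ ∈ S, α ζ * Cyc.pullFun f δX δY e (Cyc.divFun δY (ι ζ) (pf b (ι ζ))) x₀ := by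
    rw [← Finset.sum_fiberwise_of_maps_to (t := S') (g := fun z => f z) (fun z hz => (hTfin.mem_toFinset.1 hz).2.2),
      Finset.sum_image fun p _ q _ h => ι.isEmbedding.injective h]
    exact Finset.sum_congr rfl hinner
  rw [hHT, hfw, hx₀]
  have hS : ∀ g : b.fiber (eta R) → ℤ,
      (∀ ζ, g ζ ≠ 0 → α ζ ≠ 0 ∧ ι ζ ⤳ f x₀) → ∑ᶠ ζ, g ζ = ∑ ζ ∈ S, g ζ := fun g hg =>
    finsum_eq_sum_of_support_subset _ fun ζ hζ =>
      hSfin.mem_toFinset.2 ⟨(hg ζ hζ).2.mem_open V.isOpen hxV, (hg ζ hζ).1⟩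
  rw [hS _ fun ζ hζ => ⟨left_ne_zero_of_mul hζ,
    by_contra fun hn => right_ne_zero_of_mul hζ (CycC1Lib.divFun_eq_zero_of_not_specializes hn _)⟩]
  have es0 : δs (fm f b (spl R) x') = δY (f x₀) := by rw [← es, hx₀]
  have es0' : δ's x' = δX x₀ := (es' x').symm
  rw [show Module.length (((f ≫ b).fiber (spl R)).presheaf.stalk x')
      (((f ≫ b).fiber (spl R)).presheaf.stalk x' ⧸ Ideal.map ((fm f b (spl R)).stalkMap x').hom
        (maximalIdeal ((b.fiber (spl R)).presheaf.stalk (fm f b (spl R) x')))) = _ from length_fm f b (spl R) x']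
  by_cases hc : δ's x' = δs (fm f b (spl R) x') + e
  swap
  · rw [if_neg hc]
    split_ifs
    · refine Finset.sum_eq_zero fun ζ _ => ?_
      simp only [Cyc.pullFun]
      rw [if_neg (by omega), mul_zero]
    · rfl
  rw [if_pos hc]
  by_cases hr : δs (fm f b (spl R) x') = r
  swap
  · rw [if_neg hr, zero_mul, if_neg (by omega)]
  rw [if_pos hr, if_pos (by omega), Finset.sum_mul]
  refine Finset.sum_congr rfl fun ζ _ => ?_
  simp only [Cyc.pullFun]
  rw [if_pos (by omega)]
  ring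

/-- Specialization commutes with proper pushforward. -/
theorem sp_map [IsProper f]
    (δXη : (f ≫ b).fiber (eta R) → ℤ) (δXs : (f ≫ b).fiber (spl R) → ℤ)
    (δYη : b.fiber (eta R) → ℤ) (δYs : b.fiber (spl R) → ℤ)
    (h1 : Cyc.DeltaCompat ((f ≫ b).fiberToSpecResidueField (eta R)) δXη (fun _ => 0))
    (h2 : Cyc.DeltaCompat ((f ≫ b).fiberToSpecResidueField (spl R)) δXs (fun _ => 0))
    (h3 : Cyc.DeltaCompat (b.fiberToSpecResidueField (eta R)) δYη (fun _ => 0))
    (h4 : Cyc.DeltaCompat (b.fiberToSpecResidueField (spl R)) δYs (fun _ => 0))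
    [QuasiCompact (fm f b (eta R))] [QuasiCompact (fm f b (spl R))]
    (r : ℤ) (α : AlgebraicCycle ((f ≫ b).fiber (eta R)) ℤ) (hα : α ∈ Cyc.Zk ((f ≫ b).fiber (eta R)) δXη r)
    (β : AlgebraicCycle ((f ≫ b).fiber (spl R)) ℤ)
    (hβ : ⇑β = Cyc.spFun (f ≫ b) (eta R) (spl R) δXη δXs r ⇑α) :
    Cyc.spFun b (eta R) (spl R) δYη δYs r ⇑(AlgebraicCycle.map (fm f b (eta R)) δXη δYη α) =
      ⇑(AlgebraicCycle.map (fm f b (spl R)) δXs δYs β) := by
  classical
  obtain ⟨δY, hY, hbY, hfibY⟩ := exists_delta b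
  obtain ⟨δX, hX, hbX, hfibX⟩ := exists_delta (f ≫ b)
  have hδf : Cyc.DeltaCompat f δX δY := CycBivLib.deltaCompat_cancel f b rfl hbY hbX
  haveI := hX.1
  haveI := hY.1
  have eη' : ∀ w, δX ((f ≫ b).fiberι (eta R) w) = δXη w + 1 := fun w => by rw [hfibX _ _ h1, baseδ_eta]
  have es' : ∀ w, δX ((f ≫ b).fiberι (spl R) w) = δXs w := fun w => by rw [hfibX _ _ h2, baseδ_spl, add_zero]
  have eη : ∀ w, δY (b.fiberι (eta R) w) = δYη w + 1 := fun w => by rw [hfibY _ _ h3, baseδ_eta]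
  have es : ∀ w, δY (b.fiberι (spl R) w) = δYs w := fun w => by rw [hfibY _ _ h4, baseδ_spl, add_zero]
  funext y
  let y₀ := b.fiberι (spl R) y
  let ι := (f ≫ b).fiberι (eta R)
  let ι' := (f ≫ b).fiberι (spl R)
  obtain ⟨V, hV, hyV, -⟩ := exists_isAffineOpen_mem_and_subset (X := Y) (x := y₀) (U := ⊤) trivial
  haveI := quasiCompact_fiberι (R := R) (f ≫ b) (eta R)
  have hK : IsCompact (f ⁻¹' (V : Set Y)) := QuasiCompact.isCompact_preimage (f := f) _ V.isOpen hV.isCompact
  have hSfin : {ζ | f (ι ζ) ∈ V ∧ α ζ ≠ 0}.Finite :=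
    LocallyFiniteSupport.finite_inter_support_of_isCompact (Function.locallyFinsupp.locallyFiniteSupport α)
      (QuasiCompact.isCompact_preimage (f := ι) _ (V.isOpen.preimage f.continuous) hK)
  let S := hSfin.toFinset
  have hpf : ∀ ζ, pf (f ≫ b) (ι ζ) ≠ 0 := fun ζ => (pf_ne_zero_iff (f ≫ b) _).2 (fib_apply (f ≫ b) ζ)
  have hpfY : ∀ ζ, pf b (f (ι ζ)) ≠ 0 := fun ζ => (pf_ne_zero_iff b _).2 (fib_apply (f ≫ b) ζ)
  let d : (f ≫ b).fiber (eta R) → X → ℤ := fun ζ => Cyc.divFun δX (ι ζ) (pf (f ≫ b) (ι ζ))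
  let c : X → ℤ := fun x => ((AlgebraicCycle.mapCoeff f δX δY x : ℕ) : ℤ)
  let cη : (f ≫ b).fiber (eta R) → ℤ := fun ζ =>
    ((AlgebraicCycle.mapCoeff (fm f b (eta R)) δXη δYη ζ : ℕ) : ℤ)
  have hcη : ∀ ζ, cη ζ = c (ι ζ) := fun ζ => by
    simp only [cη, c, AlgebraicCycle.mapCoeff]
    rw [residueDegree_fm]
    refine congrArg Nat.cast (if_congr ?_ rfl rfl)
    rw [eη', ← fm_apply, eη]
    omega
  -- the right hand side
  have himg : ι' '' (fm f b (spl R) ⁻¹' {y}) = f ⁻¹' {y₀} := by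
    ext x
    constructor
    · rintro ⟨w, hw, rfl⟩
      show f (ι' w) = y₀
      rw [← fm_apply, show fm f b (spl R) w = y from hw]
    · intro hx
      obtain ⟨w, rfl⟩ : x ∈ Set.range ι' := by
        rw [(f ≫ b).range_fiberι]
        show b (f x) = spl R
        rw [show f x = y₀ from hx]
        exact fib_apply b y
      exact ⟨w, (b.fiberι (spl R)).isEmbedding.injective ((fm_apply f b (spl R) w).trans hx), rfl⟩
  have hR : AlgebraicCycle.map (fm f b (spl R)) δXs δYs β y =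
      ∑ᶠ x ∈ f ⁻¹' {y₀}, (∑ ζ ∈ S, α ζ * d ζ x) * c x := by
    rw [← himg, finsum_mem_image ι'.isEmbedding.injective.injOn]
    refine finsum_mem_congr rfl fun w hw => ?_
    show β w * ((AlgebraicCycle.mapCoeff (fm f b (spl R)) δXs δYs w : ℕ) : ℤ) = _
    have hwy : f (ι' w) = y₀ := by rw [← fm_apply, show fm f b (spl R) w = y from hw]
    rw [show ((AlgebraicCycle.mapCoeff (fm f b (spl R)) δXs δYs w : ℕ) : ℤ) = c (ι' w) by
      simp only [c, AlgebraicCycle.mapCoeff]
      rw [residueDegree_fm]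
      refine congrArg Nat.cast (if_congr ?_ rfl rfl)
      rw [es', ← fm_apply, es], hβ, spFun_eq (f ≫ b) hX eη' es' r ⇑α hα w]
    refine congrArg (· * _) ?_
    split_ifs with hr
    · refine finsum_eq_sum_of_support_subset _ fun ζ hζ => hSfin.mem_toFinset.2 ⟨?_, left_ne_zero_of_mul hζ⟩
      refine Specializes.mem_open ?_ V.isOpen (hwy ▸ hyV)
      exact Specializes.map (by_contra fun hn =>
        right_ne_zero_of_mul hζ (CycC1Lib.divFun_eq_zero_of_not_specializes hn _)) f.continuous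
    · refine (Finset.sum_eq_zero fun ζ _ => ?_).symm
      by_contra hne
      have h0 := right_ne_zero_of_mul hne
      simp only [d, Cyc.divFun] at h0
      split_ifs at h0 with hd
      · refine hr ?_
        have h5 : δXη ζ = r := by_contra fun hh => left_ne_zero_of_mul hne (hα _ hh)
        have h6 := hd.2
        rw [es', eη', h5] at h6
        omega
      · exact h0 rfl
  rw [hR]
  have hD : ∀ ζ, (f ⁻¹' {y₀} ∩ Function.support (fun x => α ζ * d ζ x * c x)).Finite := fun ζ =>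
    (LocallyFiniteSupport.finite_inter_support_of_isCompact (Function.locallyFinsupp.locallyFiniteSupport
      (CycPushLib.divCyc hX (ι ζ) (hpf ζ))) hK).subset fun x hx =>
      ⟨show f x ∈ V by rw [show f x = y₀ from hx.1]; exact hyV, right_ne_zero_of_mul (left_ne_zero_of_mul hx.2)⟩
  let T : Finset X := S.biUnion fun ζ => (hD ζ).toFinset
  rw [finsum_mem_congr rfl (g := fun x => ∑ ζ ∈ S, α ζ * d ζ x * c x) fun x _ => by rw [Finset.sum_mul],
    finsum_mem_eq_sum_of_inter_support_eq (s := f ⁻¹' {y₀}) (t := T.filter fun x => f x = y₀) _ (by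
      ext x
      simp only [Set.mem_inter_iff, Set.mem_preimage, Set.mem_singleton_iff, Function.mem_support,
        Finset.coe_filter, Set.mem_setOf_eq, T, Finset.mem_biUnion, Set.Finite.mem_toFinset]
      refine ⟨fun hx => ⟨⟨?_, hx.1⟩, hx.2⟩, fun hx => ⟨hx.1.2, hx.2⟩⟩
      obtain ⟨ζ, hζ, hne⟩ := Finset.exists_ne_zero_of_sum_ne_zero hx.2
      exact ⟨ζ, hζ, hx.1, hne⟩), Finset.sum_comm]
  have hpush : ∀ ζ ∈ S, ∑ x ∈ T.filter (fun x => f x = y₀), α ζ * d ζ x * c x =
      α ζ * (c (ι ζ) * Cyc.divFun δY (f (ι ζ)) (pf b (f (ι ζ))) y₀) := fun ζ hζ => by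
    have h5 := CycPushLib.pushSum_divFun hX hY f hδf (ι ζ) (hpf ζ) y₀
    rw [← gpull_pf f b (ι ζ) rfl, CycPushLib.gpull_rfl, CycC1Lib.normGen_residueFieldMap, ← zpow_natCast,
      CycC1Lib.divFun_zpow hY (hpfY ζ)] at h5
    simp only [mul_assoc]
    rw [← Finset.mul_sum]
    refine congrArg (α ζ * ·) ?_
    have h6 : ∑ᶠ x ∈ f ⁻¹' {y₀}, d ζ x * c x = ∑ x ∈ T.filter (fun x => f x = y₀), d ζ x * c x := by
      refine finsum_mem_eq_sum_of_inter_support_eq _ ?_
      ext x
      simp only [Set.mem_inter_iff, Set.mem_preimage, Set.mem_singleton_iff, Function.mem_support,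
        Finset.coe_filter, Set.mem_setOf_eq, T, Finset.mem_biUnion, Set.Finite.mem_toFinset]
      exact ⟨fun hx => ⟨⟨⟨ζ, hζ, hx.1, by
        rw [mul_assoc]; exact mul_ne_zero ((hSfin.mem_toFinset.1 hζ).2) hx.2⟩, hx.1⟩, hx.2⟩,
        fun hx => ⟨hx.1.2, hx.2⟩⟩
    rw [← h6]
    simp only [d, c]
    rw [← gpull_pf f b (ι ζ) rfl, CycPushLib.gpull_rfl, h5]
    simp only [AlgebraicCycle.mapCoeff]
    by_cases h : δY (f (ι ζ)) = δX (ι ζ)
    · rw [if_pos h, if_pos h.symm]
    · rw [if_neg h, if_neg (Ne.symm h), Nat.cast_zero, zero_mul]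
  rw [Finset.sum_congr rfl hpush]
  -- the left hand side
  have hmapZk : ∀ ζY, δYη ζY ≠ r → AlgebraicCycle.map (fm f b (eta R)) δXη δYη α ζY = 0 := fun ζY hne =>
    finsum_mem_eq_zero_of_forall_eq_zero fun ζ hζ => by
      simp only [AlgebraicCycle.mapCoeff]
      split_ifs with h
      · rw [hα ζ (by rw [h, show fm f b (eta R) ζ = ζY from hζ]; exact hne), zero_mul]
      · rw [Nat.cast_zero, mul_zero]
  rw [spFun_eq b hY eη es r _ hmapZk y]
  let S' := S.image (fm f b (eta R))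
  let D : b.fiber (eta R) → ℤ := fun ζY => Cyc.divFun δY (b.fiberι (eta R) ζY) (pf b (b.fiberι (eta R) ζY)) y₀
  have hmap : ∀ ζY, b.fiberι (eta R) ζY ∈ V → AlgebraicCycle.map (fm f b (eta R)) δXη δYη α ζY =
      ∑ ζ ∈ S.filter (fun ζ => fm f b (eta R) ζ = ζY), α ζ * cη ζ := by
    intro ζY hζY
    refine finsum_mem_eq_sum_of_inter_support_eq _ ?_
    ext ζ
    simp only [Set.mem_inter_iff, Set.mem_preimage, Set.mem_singleton_iff, Function.mem_support,
      Finset.coe_filter, Set.mem_setOf_eq]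
    refine ⟨fun h => ⟨⟨hSfin.mem_toFinset.2 ⟨?_, left_ne_zero_of_mul h.2⟩, h.1⟩, h.2⟩, fun h => ⟨h.1.2, h.2⟩⟩
    rw [← fm_apply, h.1]
    exact hζY
  have hLsum : ∑ᶠ ζY, AlgebraicCycle.map (fm f b (eta R)) δXη δYη α ζY * D ζY =
      ∑ ζ ∈ S, α ζ * (cη ζ * D (fm f b (eta R) ζ)) := by
    rw [finsum_eq_sum_of_support_subset _ (s := S') fun ζY hne => ?_,
      ← Finset.sum_fiberwise_of_maps_to (t := S') (g := fun ζ => fm f b (eta R) ζ)
        (fun ζ hζ => Finset.mem_image_of_mem _ hζ)]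
    · refine Finset.sum_congr rfl fun ζY hζY => ?_
      obtain ⟨ζ₀, hζ₀, rfl⟩ := Finset.mem_image.1 hζY
      rw [hmap _ (by rw [fm_apply]; exact (hSfin.mem_toFinset.1 hζ₀).1), Finset.sum_mul]
      refine Finset.sum_congr rfl fun ζ hζ => ?_
      rw [(Finset.mem_filter.1 hζ).2, mul_assoc]
    · have hm := left_ne_zero_of_mul hne
      rw [hmap ζY (Specializes.mem_open (by_contra fun hn =>
        right_ne_zero_of_mul hne (CycC1Lib.divFun_eq_zero_of_not_specializes hn _)) V.isOpen hyV)] at hm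
      obtain ⟨ζ, hζ, -⟩ := Finset.exists_ne_zero_of_sum_ne_zero hm
      exact Finset.mem_image.2 ⟨ζ, (Finset.mem_filter.1 hζ).1, (Finset.mem_filter.1 hζ).2⟩
  have hfinal : ∀ ζ ∈ S, α ζ * (c (ι ζ) * Cyc.divFun δY (f (ι ζ)) (pf b (f (ι ζ))) y₀) =
      α ζ * (cη ζ * D (fm f b (eta R) ζ)) := fun ζ _ => by
    rw [hcη]
    simp only [D]
    rw [fm_apply]
  rw [Finset.sum_congr rfl hfinal, ← hLsum]
  split_ifs with hr
  · rfl
  · refine (finsum_eq_zero_of_forall_eq_zero fun ζY => ?_).symm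
    by_contra hne
    have h0 := right_ne_zero_of_mul hne
    simp only [D, Cyc.divFun] at h0
    split_ifs at h0 with hd
    · refine hr ?_
      have h5 : δYη ζY = r := by_contra fun hh => left_ne_zero_of_mul hne (hmapZk _ hh)
      have h6 := hd.2
      rw [es, eη, h5] at h6
      omega
    · exact h0 rfl

end CycSpLib

end
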