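import Mathlib
import Groth.Prelude.Def_Cyc
import Groth.Prelude.Def_FlatMod2
import Groth.Agent.CycSpLib.Sheaf
import Groth.Agent.CycP1Lib.Subscheme

/-!
# Flatness over a trait and the fibres of a closed subscheme
-/

set_option autoImplicit false
set_option linter.style.haveILetI false
set_option linter.unusedSectionVars false

universe u

open AlgebraicGeometry CategoryTheory CategoryTheory.Limits IsLocalRing
open scoped Pointwise

noncomputable section

namespace CycSpLib

theorem ker_of_isPullback {F X Y : Scheme.{u}} {j : F ⟶ X} {f : X ⟶ Y} {y : Y}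
    {s : F ⟶ Spec (Y.residueField y)} (h : IsPullback j s f (Y.fromSpecResidueField y)) (v : F) :
    RingHom.ker (j.stalkMap v).hom = CycLimLib.fibIdeal f (j v) := by
  let e : F ⟶ f.fiber y := h.isoPullback.hom
  haveI : IsIso e := inferInstanceAs (IsIso h.isoPullback.hom)
  have key : ∀ j' : F ⟶ X, e ≫ f.fiberι y = j' →
      RingHom.ker (j'.stalkMap v).hom = CycLimLib.fibIdeal f (j' v) := by
    rintro _ rfl
    rw [Scheme.Hom.stalkMap_comp]
    exact (RingHom.ker_comp_of_injective ((f.fiberι y).stalkMap (e v)).hom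
      (ConcreteCategory.bijective_of_isIso (e.stalkMap v)).1).trans (ker_fiberι f y (e v))
  exact key j h.isoPullback_hom_fst

variable {R : Type u} [CommRing R] [IsDomain R] [IsDiscreteValuationRing R]
variable {W X : Scheme.{u}} (a : X ⟶ base R)

theorem germ_unif_ne_zero (y : base R) :
    (base R).presheaf.germ ⊤ y trivial ((Scheme.ΓSpecIso (CommRingCat.of R)).inv (unif R)) ≠ 0 := fun h => by
  haveI : Nonempty ↥(⊤ : (base R).Opens) := ⟨⟨y, trivial⟩⟩
  have h1 := germ_injective_of_isIntegral (base R) (U := ⊤) y trivial (h.trans (map_zero _).symm)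
  refine unif_ne_zero R ?_
  have h2 := congrArg (Scheme.ΓSpecIso (CommRingCat.of R)).hom h1
  rwa [map_zero, ← CommRingCat.comp_apply, Iso.inv_hom_id, CommRingCat.id_apply] at h2

theorem injective_of_isFlatOver {F : X.Modules} (hflat : FlatMod.IsFlatOver a F) (x : X) :
    Function.Injective fun m : F.presheaf.stalk x => piGerm a x • m := by
  letI := FlatMod.moduleStalkOver a F x
  haveI : Module.Flat ((base R).presheaf.stalk (a x)) (F.presheaf.stalk x) := hflat x
  haveI : IsDomain ((base R).presheaf.stalk (a x)) := inferInstance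
  have hreg := Module.Flat.isSMulRegular_of_nonZeroDivisors (M := F.presheaf.stalk x)
    (mem_nonZeroDivisors_of_ne_zero (germ_unif_ne_zero (R := R) (a x)))
  intro m n h
  refine hreg ?_
  show (a.stalkMap x).hom _ • m = (a.stalkMap x).hom _ • n
  rw [show (a.stalkMap x).hom ((base R).presheaf.germ ⊤ (a x) trivial
      ((Scheme.ΓSpecIso (CommRingCat.of R)).inv (unif R))) = piGerm a x from
    Scheme.Hom.germ_stalkMap_apply a ⊤ x trivial _]
  exact h

theorem stalkMap_piGerm (i : W ⟶ X) (w : W) : i.stalkMap w (piGerm a (i w)) = piGerm (i ≫ a) w := by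
  rw [piGerm, Scheme.Hom.germ_stalkMap_apply]
  rfl

/-- The uniformizer is regular on the structure sheaf of a flat closed subscheme. -/
theorem injective_push_structure (i : W ⟶ X) [IsClosedImmersion i] [Flat (i ≫ a)] (x : X) :
    Function.Injective fun m : ((Coh.push i).obj (Coh.structureModule W)).presheaf.stalk x => piGerm a x • m := by
  by_cases hx : x ∈ Set.range i
  · obtain ⟨w, rfl⟩ := hx
    obtain ⟨e, hbij, -, hsmul⟩ := exists_push_structure_stalk i w
    letI := ((i ≫ a).stalkMap w).hom.toAlgebra
    haveI : Module.Flat ((base R).presheaf.stalk ((i ≫ a) w)) (W.presheaf.stalk w) := Flat.stalkMap (i ≫ a) w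
    have hreg := Module.Flat.isSMulRegular_of_nonZeroDivisors (M := W.presheaf.stalk w)
      (mem_nonZeroDivisors_of_ne_zero (germ_unif_ne_zero (R := R) ((i ≫ a) w)))
    intro m n h
    refine hbij.1 (hreg ?_)
    have h' := congrArg e h
    simp only [hsmul, stalkMap_piGerm] at h'
    show ((i ≫ a).stalkMap w).hom _ * e m = ((i ≫ a).stalkMap w).hom _ * e n
    rw [show ((i ≫ a).stalkMap w).hom ((base R).presheaf.germ ⊤ ((i ≫ a) w) trivial
        ((Scheme.ΓSpecIso (CommRingCat.of R)).inv (unif R))) = piGerm (i ≫ a) w from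
      Scheme.Hom.germ_stalkMap_apply (i ≫ a) ⊤ w trivial _]
    exact h'
  · haveI : Subsingleton (((Coh.push i).obj (Coh.structureModule W)).presheaf.stalk x) :=
      CycP1Lib.subsingleton_stalk_push i hx
    exact fun m n _ => Subsingleton.elim m n

/-- The fibres of a closed subscheme. -/
theorem sum_length_fibre (i : W ⟶ X) [IsClosedImmersion i] {Y : Scheme.{u}} (f : X ⟶ Y) {y : Y} (ζ : f.fiber y) :
    ∑ᶠ z ∈ {z : ↥(pullback i (f.fiberι y)) | pullback.snd i (f.fiberι y) z = ζ},
        ((Module.length ((pullback i (f.fiberι y)).presheaf.stalk z)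
          ((pullback i (f.fiberι y)).presheaf.stalk z)).toNat : ℤ) =
      ((Module.length (X.presheaf.stalk (f.fiberι y ζ))
        (((Coh.push i).obj (Coh.structureModule W)).presheaf.stalk (f.fiberι y ζ) ⧸
          CycLimLib.fibIdeal f (f.fiberι y ζ) • (⊤ : Submodule (X.presheaf.stalk (f.fiberι y ζ))
            (((Coh.push i).obj (Coh.structureModule W)).presheaf.stalk (f.fiberι y ζ))))).toNat : ℤ) := by
  have hmem : ∀ z, i (pullback.fst i (f.fiberι y) z) = f.fiberι y (pullback.snd i (f.fiberι y) z) := fun z => by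
    rw [← Scheme.Hom.comp_apply, pullback.condition, Scheme.Hom.comp_apply]
  by_cases hx : f.fiberι y ζ ∈ Set.range i
  swap
  · rw [show {z : ↥(pullback i (f.fiberι y)) | pullback.snd i (f.fiberι y) z = ζ} = ∅ from
      Set.eq_empty_iff_forall_notMem.2 fun z hz => hx ⟨_, (hmem z).trans
        (congrArg _ (show pullback.snd i (f.fiberι y) z = ζ from hz))⟩, finsum_mem_empty]
    haveI : Subsingleton (((Coh.push i).obj (Coh.structureModule W)).presheaf.stalk (f.fiberι y ζ)) :=
      CycP1Lib.subsingleton_stalk_push i hx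
    rw [Module.length_eq_zero]
    rfl
  obtain ⟨z, rfl⟩ : ζ ∈ Set.range (pullback.snd i (f.fiberι y)) := by
    rw [Scheme.Pullback.range_snd]
    exact hx
  have hset : {z' | pullback.snd i (f.fiberι y) z' = pullback.snd i (f.fiberι y) z} = {z} :=
    Set.eq_singleton_iff_unique_mem.2 ⟨rfl, fun z' h => (pullback.snd i (f.fiberι y)).isClosedEmbedding.injective h⟩
  rw [hset, finsum_mem_singleton]
  congr 2
  let w := pullback.fst i (f.fiberι y) z
  have hP := (IsPullback.of_hasPullback i (f.fiberι y)).paste_vert
    (IsPullback.of_hasPullback f (Y.fromSpecResidueField y))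
  haveI := CycAffLib.isPreimmersion_of_isPullback hP
  have hsur := (pullback.fst i (f.fiberι y)).stalkMap_surjective z
  obtain ⟨e, hbij, hadd, hsmul⟩ := exists_push_structure_stalk i w
  letI : Algebra (X.presheaf.stalk (i w)) (W.presheaf.stalk w) := (i.stalkMap w).hom.toAlgebra
  let el : ((Coh.push i).obj (Coh.structureModule W)).presheaf.stalk (i w) ≃ₗ[X.presheaf.stalk (i w)]
      W.presheaf.stalk w :=
    LinearEquiv.ofBijective { toFun := e, map_add' := hadd, map_smul' := fun c m => hsmul c m } hbij
  have hJ : (CycLimLib.fibIdeal f (i w)).map (i.stalkMap w).hom = CycLimLib.fibIdeal (i ≫ f) w := by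
    simp only [CycLimLib.fibIdeal]
    rw [Ideal.map_map, ← CommRingCat.hom_comp, ← Scheme.Hom.stalkMap_comp]
    rfl
  have hmap : (CycLimLib.fibIdeal f (i w) • (⊤ : Submodule (X.presheaf.stalk (i w))
      (((Coh.push i).obj (Coh.structureModule W)).presheaf.stalk (i w)))).map el.toLinearMap =
      (CycLimLib.fibIdeal (i ≫ f) w).restrictScalars (X.presheaf.stalk (i w)) := by
    rw [Submodule.map_smul'', Submodule.map_top, LinearEquiv.range, Ideal.smul_top_eq_map]
    exact congrArg (Submodule.restrictScalars _) hJ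
  have key : Module.length ((pullback i (f.fiberι y)).presheaf.stalk z) ((pullback i (f.fiberι y)).presheaf.stalk z) =
      Module.length (X.presheaf.stalk (i w)) (((Coh.push i).obj (Coh.structureModule W)).presheaf.stalk (i w) ⧸
        CycLimLib.fibIdeal f (i w) • (⊤ : Submodule (X.presheaf.stalk (i w))
          (((Coh.push i).obj (Coh.structureModule W)).presheaf.stalk (i w)))) := by
    have hker := ker_of_isPullback hP z
    rw [(Submodule.Quotient.equiv _ _ el hmap).length_eq,
      (Submodule.Quotient.restrictScalarsEquiv (X.presheaf.stalk (i w)) (CycLimLib.fibIdeal (i ≫ f) w)).length_eq,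
      Module.length_eq_of_surjective (R := W.presheaf.stalk w) (S := X.presheaf.stalk (i w)) (i.stalkMap_surjective w)]
    rw [← CycPushLib.length_quot_map_surjective ((pullback.fst i (f.fiberι y)).stalkMap z).hom hsur
      (CycLimLib.fibIdeal (i ≫ f) w) hker.le]
    exact (Submodule.quotEquivOfEqBot _ (Ideal.map_eq_bot_iff_le_ker _ |>.2 hker.ge)).length_eq.symm
  have hco : ∀ x, i w = x → Module.length ((pullback i (f.fiberι y)).presheaf.stalk z)
      ((pullback i (f.fiberι y)).presheaf.stalk z) = Module.length (X.presheaf.stalk x)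
        (((Coh.push i).obj (Coh.structureModule W)).presheaf.stalk x ⧸ CycLimLib.fibIdeal f x •
          (⊤ : Submodule (X.presheaf.stalk x) (((Coh.push i).obj (Coh.structureModule W)).presheaf.stalk x))) :=
    fun x e => e ▸ key
  exact hco _ (hmem z)

end CycSpLib

end
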